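import Groth.Agent.Lib.KoszulFibre4.Fibre
import Groth.Agent.Lib.CI2.KRLocal
import Mathlib

/-!
# Local complete intersection ring maps near a point
-/

set_option autoImplicit false
set_option linter.style.haveILetI false
universe u

open Groth.Agent.CI2 (Ex)

namespace Groth.Agent.KoszulFibre4

theorem isLCI_congr {B C C' : Type u} [CommRing B] [CommRing C] [CommRing C'] [Algebra B C] [Algebra B C']
    (e : C ≃ₐ[B] C') (h : LCI.IsLCI B C) : LCI.IsLCI B C' := by
  obtain ⟨hft, n, φ, hφ, hKR⟩ := h
  refine ⟨hft.equiv e, n, e.toAlgHom.comp φ, e.surjective.comp hφ, ?_⟩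
  convert hKR using 1
  ext x
  exact map_eq_zero_iff e e.injective

/-- A ring map is a local complete intersection near a prime of the target. -/
def LCINear (B C : Type u) [CommRing B] [CommRing C] [Algebra B C] (qC : Ideal C) : Prop :=
  ∃ c ∉ qC, LCI.IsLCI B (Localization.Away c)

theorem krNear_of_isKR_away {A : Type u} [CommRing A] {I : Ideal A} (q : Ideal A) [q.IsPrime] (hIq : I ≤ q)
    {a : A} (ha : a ∉ q) (hKR : LCI.IsKoszulRegularIdeal (I.map (algebraMap A (Localization.Away a)))) :
    KRNear I q := by
  let Q := Localization.Away a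
  have hdis : Disjoint ((Submonoid.powers a : Submonoid A) : Set A) (q : Set A) := by
    rw [Ideal.disjoint_powers_iff_notMem a (Ideal.IsPrime.isRadical inferInstance)]; exact ha
  let p' : Ideal Q := q.map (algebraMap A Q)
  haveI : p'.IsPrime := IsLocalization.isPrime_of_isPrime_disjoint (Submonoid.powers a) Q q inferInstance hdis
  obtain ⟨b', hb', l, hl, hspan⟩ := (CI2.isKR_iff _).1 hKR ⟨p', inferInstance⟩ (Ideal.map_mono hIq)
  obtain ⟨b, s, rfl⟩ := IsLocalization.exists_mk'_eq (Submonoid.powers a) b'
  have hb : b ∉ q := fun hb => hb' (IsLocalization.mk'_mem_iff.2 (Ideal.mem_map_of_mem _ hb))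
  have hass : Associated (IsLocalization.mk' Q b s) (algebraMap A Q b) :=
    ⟨(IsLocalization.map_units Q s).unit, by rw [IsUnit.unit_spec, IsLocalization.mk'_spec]⟩
  let H := Localization.Away (IsLocalization.mk' Q b s)
  haveI : IsLocalization.Away (algebraMap A Q b) H := IsLocalization.Away.of_associated hass
  haveI : IsLocalization.Away (a * b) H := IsLocalization.Away.mul' Q H a b
  let e : H ≃ₐ[A] Localization.Away (a * b) := IsLocalization.algEquiv (Submonoid.powers (a * b)) H _
  refine ⟨a * b, fun hm => (Ideal.IsPrime.mem_or_mem inferInstance hm).elim ha hb, l.map e.toRingEquiv,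
    CI2.ex_map_equiv e.toRingEquiv hl, ?_⟩
  rw [show (l.map e.toRingEquiv) = l.map e.toRingEquiv.toRingHom from rfl, ← Ideal.map_ofList, ← hspan,
    Ideal.map_map, Ideal.map_map]
  refine congrArg (fun φ => Ideal.map φ I) (RingHom.ext fun x => ?_)
  show _ = e (algebraMap Q H (algebraMap A Q x))
  rw [← IsScalarTower.algebraMap_apply A Q H, AlgEquiv.commutes]

theorem isKR_of_ex {G : Type u} [CommRing G] {J : Ideal G} {l : List G} (hl : Ex G G l) (hJ : J = Ideal.ofList l) :
    LCI.IsKoszulRegularIdeal J := by
  rw [CI2.isKR_iff]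
  intro p _
  refine ⟨1, (Ideal.ne_top_iff_one _).1 p.2.ne_top, l.map (algebraMap G (Localization.Away (1 : G))),
    CI2.Ex.localization (Submonoid.powers (1 : G)) hl, ?_⟩
  rw [hJ, Ideal.map_ofList]

open Polynomial in
theorem C_mul_X_sub_one_regular {P : Type u} [CommRing P] (h : P) (a : P[X]) (ha : (C h * X - 1) * a = 0) :
    a = 0 := by
  ext n
  have h1 : ∀ m, ((C h * X - 1) * a).coeff m = 0 := fun m => by rw [ha, coeff_zero]
  induction n with
  | zero => simpa [sub_mul, mul_assoc] using h1 0
  | succ n ih => simpa [sub_mul, mul_assoc, ih] using h1 (n + 1)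

/-- On a presentation, being a local complete intersection near a prime is Koszul regularity of the kernel there. -/
theorem lciNear_iff_krNear {B C : Type u} [CommRing B] [CommRing C] [Algebra B C] {n : ℕ}
    (α : MvPolynomial (Fin n) B →ₐ[B] C) (hα : Function.Surjective α) (qC : Ideal C) [qC.IsPrime] :
    LCINear B C qC ↔ KRNear (RingHom.ker α.toRingHom) (qC.comap α.toRingHom) := by
  let P := MvPolynomial (Fin n) B
  have hdata : ∀ a : P, ∃ ψ : MvPolynomial (Option (Fin n)) B →ₐ[B] Localization.Away (α a),
      Function.Surjective ψ ∧ (LCI.IsKoszulRegularIdeal (RingHom.ker ψ.toRingHom) ↔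
        LCI.IsKoszulRegularIdeal ((RingHom.ker α.toRingHom).map (algebraMap P (Localization.Away a)))) := by
    intro a
    have hmap : (Submonoid.powers a).map α.toRingHom = Submonoid.powers (α a) := Submonoid.map_powers _ _
    haveI : IsLocalization ((Submonoid.powers a).map α.toRingHom) (Localization.Away (α a)) := by
      rw [hmap]; infer_instance
    let φ : Localization.Away a →+* Localization.Away (α a) :=
      IsLocalization.Away.map (Localization.Away a) (Localization.Away (α a)) α.toRingHom a
    have hφs : Function.Surjective φ := IsLocalization.map_surjective_of_surjective (M := Submonoid.powers a)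
      (g := α.toRingHom) (S := Localization.Away a) (Q := Localization.Away (α a)) hα
    have hφk : RingHom.ker φ = (RingHom.ker α.toRingHom).map (algebraMap P (Localization.Away a)) :=
      IsLocalization.ker_map (S := Localization.Away a) (Localization.Away (α a)) α.toRingHom hmap
    obtain ⟨hs, hk, hC⟩ := CI2.polyAway_spec a
    let ψA : MvPolynomial (Option (Fin n)) B →ₐ[B] Localization.Away (α a) :=
      { (φ.comp (CI2.polyAway a)).comp (MvPolynomial.optionEquivLeft B (Fin n)).toRingEquiv.toRingHom with
        commutes' := fun r => by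
          show φ (CI2.polyAway a (MvPolynomial.optionEquivLeft B (Fin n) (algebraMap B _ r))) = _
          rw [AlgEquiv.commutes, show algebraMap B (Polynomial P) r = Polynomial.C (algebraMap B P r) from rfl, hC]
          show IsLocalization.map _ α.toRingHom _ (algebraMap P _ (algebraMap B P r)) = _
          rw [IsLocalization.map_eq, show α.toRingHom (algebraMap B P r) = algebraMap B C r from α.commutes r,
            ← IsScalarTower.algebraMap_apply] }
    refine ⟨ψA, (hφs.comp hs).comp (MvPolynomial.optionEquivLeft B (Fin n)).surjective, ?_⟩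
    show LCI.IsKoszulRegularIdeal (RingHom.ker
      ((φ.comp (CI2.polyAway a)).comp (MvPolynomial.optionEquivLeft B (Fin n)).toRingEquiv.toRingHom)) ↔ _
    rw [CI2.isKR_ker_comp_equiv, ← RingHom.comap_ker, hφk]
    exact ⟨CI2.isKR_of_isKR_comap_polyAway a,
      CI2.isKR_comap_of_isKR _ hs _ hk (C_mul_X_sub_one_regular a)⟩
  constructor
  · rintro ⟨c, hc, -, n', β, hβ, hKR⟩
    obtain ⟨a, rfl⟩ := hα c
    obtain ⟨ψ, hψ, hiff⟩ := hdata a
    exact krNear_of_isKR_away _ (Ideal.comap_mono bot_le) (fun h => hc h)
      (hiff.1 (CI2.isKR_ker_of_isKR_ker β hβ ψ hψ hKR))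
  · rintro ⟨g, hg, l, hl, hspan⟩
    obtain ⟨ψ, hψ, hiff⟩ := hdata g
    let r : MvPolynomial (Fin (n + 1)) B ≃ₐ[B] MvPolynomial (Option (Fin n)) B :=
      MvPolynomial.renameEquiv B (finSuccEquiv n)
    have hs : Function.Surjective (ψ.comp r.toAlgHom) := hψ.comp r.surjective
    refine ⟨α g, hg, Algebra.FiniteType.of_surjective _ hs, n + 1, ψ.comp r.toAlgHom, hs, ?_⟩
    show LCI.IsKoszulRegularIdeal (RingHom.ker (ψ.toRingHom.comp r.toRingEquiv.toRingHom))
    rw [CI2.isKR_ker_comp_equiv]
    exact hiff.2 (isKR_of_ex hl hspan)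

set_option maxHeartbeats 1600000 in
/-- Being a local complete intersection near a prime is invariant under base change over a base over which both
rings are flat. -/
theorem lciNear_baseChange_iff {R R' B B' C C' : Type u} [CommRing R] [CommRing R'] [CommRing B] [CommRing B']
    [CommRing C] [CommRing C'] [Algebra R R'] [Algebra R B] [Algebra R B'] [Algebra R C] [Algebra R C']
    [Algebra R' B'] [Algebra R' C'] [Algebra B B'] [Algebra B C] [Algebra B C'] [Algebra B' C'] [Algebra C C']
    [IsScalarTower R R' B'] [IsScalarTower R B B'] [IsScalarTower R R' C'] [IsScalarTower R C C']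
    [IsScalarTower R B C] [IsScalarTower B B' C'] [IsScalarTower B C C'] [IsScalarTower R' B' C']
    [IsScalarTower R B' C'] [IsScalarTower R B C']
    [hP : Algebra.IsPushout R R' B B'] [hQ : Algebra.IsPushout B B' C C']
    [Algebra.FinitePresentation R B] [Module.Flat R B] [Algebra.FinitePresentation R C] [Module.Flat R C]
    (qC : Ideal C') [qC.IsPrime] :
    LCINear B' C' qC ↔ LCINear B C (qC.comap (algebraMap C C')) := by
  haveI : Algebra.FiniteType B C := Algebra.FiniteType.of_restrictScalars_finiteType R B C
  obtain ⟨n, α, hα⟩ := Algebra.FiniteType.iff_quotient_mvPolynomial''.1 (inferInstance : Algebra.FiniteType B C)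
  let A := MvPolynomial (Fin n) B
  let A' := MvPolynomial (Fin n) B'
  letI : Algebra A A' := MvPolynomial.algebraMvPolynomial
  haveI : IsScalarTower B A A' := IsScalarTower.of_algebraMap_eq fun r => by
    show _ = MvPolynomial.map (algebraMap B B') (MvPolynomial.C r)
    rw [MvPolynomial.map_C]; rfl
  haveI : IsScalarTower R B A' := IsScalarTower.of_algebraMap_eq fun r => by
    show MvPolynomial.C (algebraMap R B' r) = MvPolynomial.C (algebraMap B B' (algebraMap R B r))
    rw [← IsScalarTower.algebraMap_apply]
  haveI : IsScalarTower R A A' := IsScalarTower.of_algebraMap_eq fun r => by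
    rw [IsScalarTower.algebraMap_apply R B A', IsScalarTower.algebraMap_apply B A A',
      ← IsScalarTower.algebraMap_apply R B A]
  haveI hA : Algebra.IsPushout B B' A A' := AddMonoidAlgebra.instIsPushout
  haveI hRA : Algebra.IsPushout R R' A A' := by
    haveI := hP.symm
    haveI := hA.symm
    exact ((Algebra.IsPushout.comp_iff R B R' B' (T := A) (T' := A')).2 inferInstance).symm
  letI : Algebra A C := α.toRingHom.toAlgebra
  haveI : IsScalarTower B A C := IsScalarTower.of_algebraMap_eq fun r => (α.commutes r).symm
  haveI : IsScalarTower R A C := IsScalarTower.of_algebraMap_eq fun r => by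
    rw [IsScalarTower.algebraMap_apply R B C, IsScalarTower.algebraMap_apply R B A,
      ← IsScalarTower.algebraMap_apply B A C]
  let α' : A' →ₐ[B'] C' := MvPolynomial.aeval fun i => algebraMap C C' (α (MvPolynomial.X i))
  letI : Algebra A' C' := α'.toRingHom.toAlgebra
  haveI : IsScalarTower B' A' C' := IsScalarTower.of_algebraMap_eq fun r => (α'.commutes r).symm
  have hαα : ∀ x : A, α' (algebraMap A A' x) = algebraMap C C' (α x) := by
    intro x
    show α' (MvPolynomial.map (algebraMap B B') x) = _
    induction x using MvPolynomial.induction_on with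
    | C r =>
      rw [MvPolynomial.map_C, show MvPolynomial.C (algebraMap B B' r) = algebraMap B' A' (algebraMap B B' r) from rfl,
        α'.commutes, show MvPolynomial.C r = algebraMap B A r from rfl, α.commutes,
        ← IsScalarTower.algebraMap_apply, ← IsScalarTower.algebraMap_apply]
    | add a b ha hb => rw [map_add, map_add, map_add, map_add, ha, hb]
    | mul_X a i ha => rw [map_mul, map_mul, map_mul, map_mul, ha, MvPolynomial.map_X, MvPolynomial.aeval_X]
  letI : Algebra A C' := ((algebraMap C C').comp α.toRingHom).toAlgebra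
  haveI : IsScalarTower A C C' := IsScalarTower.of_algebraMap_eq fun _ => rfl
  haveI : IsScalarTower A A' C' := IsScalarTower.of_algebraMap_eq fun x => (hαα x).symm
  haveI : IsScalarTower B A C' := IsScalarTower.of_algebraMap_eq fun r => by
    rw [IsScalarTower.algebraMap_apply B C C', ← α.commutes r]; rfl
  haveI : IsScalarTower B A' C' := IsScalarTower.of_algebraMap_eq fun r => by
    rw [IsScalarTower.algebraMap_apply B B' C', IsScalarTower.algebraMap_apply B B' A',
      ← IsScalarTower.algebraMap_apply B' A' C']
  haveI hAC : Algebra.IsPushout A C A' C' := by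
    haveI := hA.symm
    haveI := hQ.symm
    exact (Algebra.IsPushout.comp_iff B A B' A' (T := C) (T' := C')).1 inferInstance
  have hα' : Function.Surjective α' := by
    intro y
    obtain ⟨z, rfl⟩ := (Algebra.IsPushout.equiv A C A' C').surjective y
    induction z using TensorProduct.induction_on with
    | zero => exact ⟨0, by rw [map_zero, map_zero]⟩
    | add a b ha hb =>
      obtain ⟨u, hu⟩ := ha
      obtain ⟨v, hv⟩ := hb
      exact ⟨u + v, by rw [map_add, map_add, hu, hv]⟩
    | tmul c a =>
      obtain ⟨x, rfl⟩ := hα c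
      exact ⟨algebraMap A A' x * a, by rw [map_mul, hαα, Algebra.IsPushout.equiv_tmul]; rfl⟩
  let I := RingHom.ker α.toRingHom
  have hker : RingHom.ker α'.toRingHom = I.map (algebraMap A A') := by
    refine le_antisymm (fun y hy => ?_) (Ideal.map_le_iff_le_comap.2 fun x hx => ?_)
    · let J := I.map (algebraMap A A')
      let f : C →ₐ[A] A' ⧸ J :=
        { toRingHom := RingHom.liftOfSurjective α.toRingHom hα ⟨(algebraMap A (A' ⧸ J)), fun x hx => by
            rw [RingHom.mem_ker, IsScalarTower.algebraMap_apply A A' (A' ⧸ J)]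
            exact Ideal.Quotient.eq_zero_iff_mem.2 (Ideal.mem_map_of_mem _ hx)⟩
          commutes' := fun x => RingHom.liftOfRightInverse_comp_apply _ _ _ _ x }
      haveI := hAC
      have h1 := Algebra.pushoutDesc_right C' f (IsScalarTower.toAlgHom A A' (A' ⧸ J)) (fun _ _ => mul_comm _ _) y
      rw [show algebraMap A' C' y = 0 from hy, map_zero] at h1
      exact Ideal.Quotient.eq_zero_iff_mem.1 h1.symm
    · show α' (algebraMap A A' x) = 0
      rw [hαα, show α x = 0 from hx, map_zero]
  haveI : Algebra.FinitePresentation R A := Algebra.FinitePresentation.trans R B A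
  haveI : Module.Flat R A := Module.Flat.trans R B A
  have hIfg : I.FG := by
    exact Algebra.FinitePresentation.ker_fG_of_surjective (IsScalarTower.toAlgHom R A C) hα
  let eI : (A ⧸ I) ≃ₐ[R] C :=
    Ideal.quotientKerAlgEquivOfSurjective (f := IsScalarTower.toAlgHom R A C) hα
  haveI : Module.Flat R (A ⧸ I) := Module.Flat.of_linearEquiv eI.toLinearEquiv
  haveI hRC : Algebra.IsPushout R R' C C' := by
    haveI := hP.symm
    haveI := hQ.symm
    exact ((Algebra.IsPushout.comp_iff R B R' B' (T := C) (T' := C')).2 inferInstance).symm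
  haveI : IsScalarTower R' A' C' := IsScalarTower.of_algebraMap_eq fun r => by
    rw [IsScalarTower.algebraMap_apply R' B' C', IsScalarTower.algebraMap_apply R' B' A',
      ← IsScalarTower.algebraMap_apply B' A' C']
  haveI : Module.Flat R' (A' ⧸ I.map (algebraMap A A')) := by
    haveI : Module.Flat R' C' := Module.Flat.isBaseChange R R' C C' hRC.out
    let e : (A' ⧸ RingHom.ker (IsScalarTower.toAlgHom R' A' C').toRingHom) ≃ₐ[R'] C' :=
      Ideal.quotientKerAlgEquivOfSurjective (f := IsScalarTower.toAlgHom R' A' C') hα'
    exact hker ▸ Module.Flat.of_linearEquiv e.toLinearEquiv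
  rw [lciNear_iff_krNear α' hα' qC, lciNear_iff_krNear α hα (qC.comap (algebraMap C C')), hker,
    krNear_baseChange_iff (R := R) (R' := R') hIfg (qC.comap α'.toRingHom)
      (hker ▸ Ideal.comap_mono bot_le), Ideal.comap_comap, Ideal.comap_comap]
  exact iff_of_eq (congrArg (fun φ => KRNear I (qC.comap φ)) (RingHom.ext hαα))

end Groth.Agent.KoszulFibre4
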