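import Groth.Agent.Lib.CI2.Rel
import Groth.Agent.Lib.CI2.RelNhd
import Groth.Agent.Lib.CI2.FlatLCI
import Groth.Agent.Lib.EmbDef.Regular
import Mathlib

/-!
# Regular sequences spread out from a fibre
-/

set_option autoImplicit false
set_option linter.style.haveILetI false
universe u

open TensorProduct RingTheory.Sequence

namespace Groth.Agent.KoszulFibre4

variable {R A : Type u} [CommRing R] [CommRing A] [Algebra R A] [Algebra.FinitePresentation R A]
  [Module.Flat R A] (q : Ideal A) [q.IsPrime]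

/-- The fibrewise regularity condition at `q`. -/
def FibReg (R : Type u) [CommRing R] [Algebra R A] (fs : List A) : Prop :=
  ∀ (j : ℕ) (hj : j < fs.length) (a : A), ∀ t ∉ q,
    t * fs[j] * a ∈ (q.comap (algebraMap R A)).map (algebraMap R A) ⊔ Ideal.ofList (fs.take j) →
      ∃ s ∉ q, s * a ∈ (q.comap (algebraMap R A)).map (algebraMap R A) ⊔ Ideal.ofList (fs.take j)

theorem spread_step (fs : List A) (hq : Ideal.ofList fs ≤ q) (h : FibReg q R fs) :
    ∀ i ≤ fs.length,
      (∀ j < i, ∀ (hj : j < fs.length), ∃ f ∉ q, ∀ a, a * fs[j] ∈ Ideal.ofList (fs.take j) →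
        ∃ N : ℕ, f ^ N * a ∈ Ideal.ofList (fs.take j)) ∧
      ∀ (J : Ideal R) (x : (A ⧸ Ideal.ofList (fs.take i)) ⊗[R] J),
        J.subtype.lTensor _ x = 0 → ∃ s ∉ q, s • x = 0 := by
  intro i
  induction i with
  | zero =>
    intro _
    refine ⟨fun j hj => absurd hj (Nat.not_lt_zero j),
      fun J x hx => ⟨1, (Ideal.ne_top_iff_one q).mp (Ideal.IsPrime.ne_top ‹_›), ?_⟩⟩
    haveI : Module.Flat R (A ⧸ Ideal.ofList (fs.take 0)) := by
      rw [List.take_zero, Ideal.ofList_nil]
      exact Module.Flat.of_linearEquiv (AlgEquiv.quotientBot R A).toLinearEquiv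
    rw [one_smul]
    exact Module.Flat.lTensor_preserves_injective_linearMap J.subtype J.injective_subtype (hx.trans (map_zero _).symm)
  | succ i ih =>
    intro hi
    obtain ⟨hreg0, hflat0⟩ := ih (by omega)
    let p := q.comap (algebraMap R A)
    let I := Ideal.ofList (fs.take i)
    let C' := A ⧸ I
    let mk := Ideal.Quotient.mk I
    have hIq : I ≤ q := le_trans (Ideal.span_mono fun x hx => List.take_subset i fs hx) hq
    let Q := q.map mk
    haveI : Q.IsPrime := Ideal.map_isPrime_of_surjective Ideal.Quotient.mk_surjective (by rwa [Ideal.mk_ker])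
    have hQ : Q.comap mk = q := by
      rw [Ideal.comap_map_of_surjective mk Ideal.Quotient.mk_surjective, ← RingHom.ker_eq_comap_bot, Ideal.mk_ker,
        sup_eq_left.mpr hIq]
    have hmemQ : ∀ z, mk z ∈ Q ↔ z ∈ q := fun z => by rw [← Ideal.mem_comap, hQ]
    haveI : Algebra.FinitePresentation R C' := Algebra.FinitePresentation.quotient
      ⟨((fs.take i).finite_toSet).toFinset, by simp [I]⟩
    haveI : Module.Flat R (LocalizedModule Q.primeCompl C') := by
      refine (FlatH4.flat_localized_iff Q).mpr fun J x hx => ?_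
      obtain ⟨s, hs, hsx⟩ := hflat0 J x hx
      refine ⟨mk s, fun h => hs ((hmemQ s).mp h), ?_⟩
      rwa [show mk s = algebraMap A C' s from rfl, algebraMap_smul]
    have hpC : Q.comap (algebraMap R C') = p := by
      rw [IsScalarTower.algebraMap_eq R A C', ← Ideal.comap_comap, Ideal.Quotient.algebraMap_eq, hQ]
    have hmapeq : (Q.comap (algebraMap R C')).map (algebraMap R C') = (p.map (algebraMap R A)).map mk := by
      rw [hpC, Ideal.map_map]; rfl
    have hreg : ∀ c : C', ∀ t ∉ Q, t * mk fs[i] * c ∈ (Q.comap (algebraMap R C')).map (algebraMap R C') →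
        ∃ s ∉ Q, s * c ∈ (Q.comap (algebraMap R C')).map (algebraMap R C') := by
      intro c t ht hmem
      obtain ⟨c, rfl⟩ := Ideal.Quotient.mk_surjective c
      obtain ⟨t, rfl⟩ := Ideal.Quotient.mk_surjective t
      rw [hmapeq, ← map_mul, ← map_mul, Ideal.mem_quotient_iff_mem_sup] at hmem
      obtain ⟨s, hs, hsc⟩ := h i (by omega) c t (fun h' => ht ((hmemQ t).mpr h')) hmem
      refine ⟨mk s, fun h' => hs ((hmemQ s).mp h'), ?_⟩
      rwa [hmapeq, ← map_mul, Ideal.mem_quotient_iff_mem_sup]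
    have hiQ : mk fs[i] ∈ Q := (hmemQ _).mpr (hq (Ideal.subset_span (List.getElem_mem _)))
    obtain ⟨f, hf, H⟩ := FlatH4.exists_slice Q (mk fs[i]) hiQ hreg
    obtain ⟨-, h2⟩ := CI2.slice_step Q (mk fs[i]) hiQ hreg
    constructor
    · intro j hj hjl
      rcases Nat.lt_succ_iff_lt_or_eq.mp hj with hlt | rfl
      · exact hreg0 j hlt hjl
      · obtain ⟨f, rfl⟩ := Ideal.Quotient.mk_surjective f
        refine ⟨f, fun h' => hf ((hmemQ f).mpr h'), fun a ha => ?_⟩
        obtain ⟨hnzd, -⟩ := H (Localization.Away (mk f))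
        have ha' : algebraMap C' (Localization.Away (mk f)) (mk a) = 0 := by
          refine (mem_nonZeroDivisors_iff_right.mp hnzd) _ ?_
          rw [← map_mul, ← map_mul, Ideal.Quotient.eq_zero_iff_mem.mpr ha, map_zero]
        obtain ⟨⟨_, N, rfl⟩, hN⟩ := (IsLocalization.map_eq_zero_iff (Submonoid.powers (mk f)) _ _).mp ha'
        refine ⟨N, Ideal.Quotient.eq_zero_iff_mem.mp ?_⟩
        rw [map_mul, map_pow]
        exact hN
    · intro J x hx
      have hI' : Ideal.ofList (fs.take (i + 1)) = I ⊔ Ideal.span {fs[i]} := by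
        rw [← List.take_concat_get' fs i (by omega), Ideal.ofList_append, Ideal.ofList_singleton]
      have hK : Ideal.span {mk fs[i]} = (Ideal.span {fs[i]}).map mk := by rw [Ideal.map_span, Set.image_singleton]
      let e : (A ⧸ Ideal.ofList (fs.take (i + 1))) ≃ₐ[A] (C' ⧸ Ideal.span {mk fs[i]}) :=
        ((Ideal.quotientEquivAlgOfEq A hI').trans (DoubleQuot.quotQuotEquivQuotSupₐ A I (Ideal.span {fs[i]})).symm).trans
          (Ideal.quotientEquivAlgOfEq A hK.symm)
      let E := AlgebraTensorModule.rTensor R J e.toLinearMap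
      have hEinj : Function.Injective E :=
        (AlgebraTensorModule.congr e.toLinearEquiv (LinearEquiv.refl R J)).injective
      obtain ⟨s, hs, hsx⟩ := h2 J (E x) (by
        show J.subtype.lTensor _ ((e.toLinearMap.restrictScalars R).rTensor J x) = 0
        rw [← LinearMap.comp_apply, LinearMap.lTensor_comp_rTensor, ← LinearMap.rTensor_comp_lTensor, LinearMap.comp_apply, hx, map_zero])
      obtain ⟨s, rfl⟩ := Ideal.Quotient.mk_surjective s
      refine ⟨s, fun h' => hs ((hmemQ s).mpr h'), hEinj ?_⟩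
      rw [map_smul, map_zero, ← hsx]
      exact (algebraMap_smul C' s (E x)).symm

/-- A sequence regular on the fibre at `q` is regular near `q`. -/
theorem exists_isWeaklyRegular_away (fs : List A) (hq : Ideal.ofList fs ≤ q) (h : FibReg q R fs) :
    ∃ g ∉ q, ∀ g' : A, g ∣ g' →
      IsWeaklyRegular (Localization.Away g') (fs.map (algebraMap A (Localization.Away g'))) := by
  classical
  choose f hf hfa using fun j : Fin fs.length => (spread_step q fs hq h fs.length le_rfl).1 j j.2 j.2
  refine ⟨∏ j, f j, fun hm => ?_, fun g' hdvd => ?_⟩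
  · obtain ⟨j, -, hj⟩ := (inferInstance : q.IsPrime).prod_mem_iff.mp hm
    exact hf j hj
  rw [EmbDef.isWeaklyRegular_self_iff]
  intro i hi a ha
  rw [List.length_map] at hi
  rw [← List.map_take, ← Ideal.map_ofList] at ha ⊢
  rw [List.getElem_map] at ha
  let L := Localization.Away g'
  obtain ⟨⟨b, t⟩, hbt⟩ := IsLocalization.surj (Submonoid.powers g') a
  have hmem := Ideal.mul_mem_right (algebraMap A L (t : A)) _ ha
  rw [mul_right_comm, hbt, ← map_mul, CI2.mem_map_localization (Submonoid.powers g')] at hmem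
  obtain ⟨_, ⟨M, rfl⟩, hM⟩ := hmem
  obtain ⟨N, hN⟩ := hfa ⟨i, hi⟩ (g' ^ M * b) (by rwa [mul_assoc])
  rw [← Ideal.unit_mul_mem_iff_mem _ (IsLocalization.map_units L t), mul_comm, hbt,
    CI2.mem_map_localization (Submonoid.powers g')]
  obtain ⟨e, he⟩ := (Finset.dvd_prod_of_mem f (Finset.mem_univ (⟨i, hi⟩ : Fin fs.length))).trans hdvd
  refine ⟨g' ^ (N + M), ⟨N + M, rfl⟩, ?_⟩
  rw [pow_add]
  nth_rw 1 [he]
  rw [show (f ⟨i, hi⟩ * e) ^ N * g' ^ M * b = e ^ N * (f ⟨i, hi⟩ ^ N * (g' ^ M * b)) by ring]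
  exact Ideal.mul_mem_left _ _ hN

end Groth.Agent.KoszulFibre4
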