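import Groth.Agent.Lib.KoszulFibre4.Tensor
import Groth.Agent.Lib.KoszulFibre4.Spread
import Groth.Agent.Lib.CI2.KRPeel
import Mathlib

/-!
# Koszul regularity near a point and change of the base
-/

set_option autoImplicit false
set_option linter.style.haveILetI false
universe u

open TensorProduct RingTheory.Sequence IsLocalRing
open Groth.Agent.CI2 (Ex)

namespace Groth.Agent.KoszulFibre4

/-- `I` is generated by a Koszul regular sequence on a basic neighbourhood of `q`. -/
def KRNear {A : Type u} [CommRing A] (I q : Ideal A) : Prop :=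
  ∃ g ∉ q, ∃ l : List (Localization.Away g), Ex (Localization.Away g) (Localization.Away g) l ∧
    I.map (algebraMap A (Localization.Away g)) = Ideal.ofList l

variable {R : Type u} [CommRing R]

theorem flat_quot_loc {A L : Type u} [CommRing A] [CommRing L] [Algebra R A] [Algebra A L] [Algebra R L]
    [IsScalarTower R A L] (S : Submonoid A) [IsLocalization S L] (I : Ideal A) [Module.Flat R (A ⧸ I)] :
    Module.Flat R (L ⧸ I.map (algebraMap A L)) := by
  let ρ : (A ⧸ I) →ₗ[A] L ⧸ I.map (algebraMap A L) := CI2.quotLoc I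
  haveI : IsLocalizedModule S ρ := CI2.isLocalizedModule_quotLoc S I
  haveI := FlatSyz.flat_localizedModule (A := R) (B := A) (M := A ⧸ I) S
  exact Module.Flat.of_linearEquiv ((IsLocalizedModule.iso S ρ).symm.restrictScalars R)

/-- Koszul regularity with flat quotient is stable under base change. -/
theorem krNear_baseChange {R' A A' : Type u} [CommRing R'] [CommRing A] [CommRing A'] [Algebra R R'] [Algebra R A]
    [Algebra R A'] [Algebra A A'] [Algebra R' A'] [IsScalarTower R A A'] [IsScalarTower R R' A']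
    [hP : Algebra.IsPushout R R' A A'] [Module.Flat R A] {I : Ideal A} [Module.Flat R (A ⧸ I)] (q' : Ideal A')
    (h : KRNear I (q'.comap (algebraMap A A'))) : KRNear (I.map (algebraMap A A')) q' := by
  obtain ⟨g, hg, l, hl, hspan⟩ := h
  let G := Localization.Away g
  let G' := Localization.Away (algebraMap A A' g)
  letI : Algebra G G' := (IsLocalization.Away.map G G' (algebraMap A A') g).toAlgebra
  have hmap : ∀ x, algebraMap G G' (algebraMap A G x) = algebraMap A' G' (algebraMap A A' x) := fun x =>
    IsLocalization.map_eq (S := G) (Q := G') (M := Submonoid.powers g) (T := Submonoid.powers (algebraMap A A' g)) (g := algebraMap A A') (by rintro _ ⟨k, rfl⟩; exact ⟨k, (map_pow (algebraMap A A') g k).symm⟩) x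
  haveI : IsScalarTower A G G' := IsScalarTower.of_algebraMap_eq fun x =>
    ((IsScalarTower.algebraMap_apply A A' G' x).trans (hmap x).symm)
  haveI : IsScalarTower R G G' := IsScalarTower.of_algebraMap_eq fun r => by
    rw [IsScalarTower.algebraMap_apply R A G, hmap, IsScalarTower.algebraMap_apply R A' G',
      IsScalarTower.algebraMap_apply R A A']
  haveI : Algebra.IsPushout A G A' G' := by
    haveI : IsLocalization (Algebra.algebraMapSubmonoid A' (Submonoid.powers g)) G' := by
      rw [Algebra.algebraMapSubmonoid, Submonoid.map_powers]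
      infer_instance
    exact (Algebra.isPushout_of_isLocalization (Submonoid.powers g) G A' G').symm
  haveI := hP.symm
  haveI hP' : Algebra.IsPushout R G R' G' := (Algebra.IsPushout.comp_iff (T' := G') R A R' A').2 inferInstance
  haveI := hP'.symm
  haveI : Module.Flat R G := by
    haveI := IsLocalization.flat G (Submonoid.powers g)
    exact Module.Flat.trans R A G
  haveI : Module.Flat R (G ⧸ Ideal.ofList l) := hspan ▸ flat_quot_loc (Submonoid.powers g) I
  refine ⟨algebraMap A A' g, hg, l.map (algebraMap G G'), ex_pushout (R := R) (R' := R') l hl, ?_⟩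
  rw [← Ideal.map_ofList, ← hspan, Ideal.map_map, Ideal.map_map]
  exact congrArg (fun φ => Ideal.map φ I) (RingHom.ext fun x => (hmap x).symm)

/-- A fibre over a field is flat over the reduction of the ring. -/
theorem flat_lift_of_isPushout {K A A' : Type u} [Field K] [CommRing A] [CommRing A'] [Algebra R K] [Algebra R A]
    [Algebra R A'] [Algebra A A'] [Algebra K A'] [IsScalarTower R A A'] [IsScalarTower R K A']
    [hP : Algebra.IsPushout R K A A'] (p : Ideal R) (hp : p = RingHom.ker (algebraMap R K))
    (σ : A ⧸ p.map (algebraMap R A) →+* A') (hσ : σ.comp (Ideal.Quotient.mk _) = algebraMap A A') : σ.Flat := by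
  haveI : p.IsPrime := by rw [hp]; exact RingHom.ker_isPrime _
  let f : (R ⧸ p) →ₐ[R] K := Ideal.Quotient.liftₐ p (Algebra.ofId R K) fun r hr => by
    rw [hp] at hr; exact hr
  have hf : f.toRingHom.Flat := by
    letI : Algebra (R ⧸ p) K := f.toRingHom.toAlgebra
    have hinj : Function.Injective (algebraMap (R ⧸ p) K) :=
      RingHom.lift_injective_of_ker_le_ideal _ _ (le_of_eq hp.symm)
    haveI : FaithfulSMul (R ⧸ p) K := (faithfulSMul_iff_algebraMap_injective _ _).2 hinj
    letI := FractionRing.liftAlgebra (R ⧸ p) K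
    haveI : Module.Flat (R ⧸ p) (FractionRing (R ⧸ p)) :=
      IsLocalization.flat _ (nonZeroDivisors (R ⧸ p))
    exact Module.Flat.trans (R ⧸ p) (FractionRing (R ⧸ p)) K
  have hψ := RingHom.Flat.tensorProductMap (A := R ⧸ p) (S := R) (f := f) (g := AlgHom.id R A) hf
    (RingHom.Flat.id A)
  let e₁ : A ⧸ p.map (algebraMap R A) ≃+* (R ⧸ p) ⊗[R] A :=
    (Algebra.TensorProduct.quotIdealMapEquivQuotTensor A p).toRingEquiv
  let e₂ : K ⊗[R] A ≃+* A' := (Algebra.IsPushout.equiv R K A A').toRingEquiv
  have hcomp : σ = (e₂.toRingHom.comp (Algebra.TensorProduct.map f (AlgHom.id R A)).toRingHom).comp e₁.toRingHom := by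
    refine Ideal.Quotient.ringHom_ext (RingHom.ext fun a => ?_)
    show σ (Ideal.Quotient.mk _ a) = Algebra.IsPushout.equiv R K A A' (f 1 ⊗ₜ[R] a)
    rw [Algebra.IsPushout.equiv_tmul, map_one, map_one, one_mul]
    exact DFunLike.congr_fun hσ a
  rw [hcomp]
  exact (RingHom.Flat.of_bijective e₁.bijective).comp (hψ.comp (RingHom.Flat.of_bijective e₂.bijective))

set_option maxHeartbeats 1600000 in
set_option synthInstance.maxHeartbeats 100000 in
/-- Koszul regularity near a point follows from Koszul regularity on a fibre. -/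
theorem krNear_of_fibre {K A A' : Type u} [Field K] [CommRing A] [CommRing A'] [Algebra R K] [Algebra R A]
    [Algebra R A'] [Algebra A A'] [Algebra K A'] [IsScalarTower R A A'] [IsScalarTower R K A']
    [hP : Algebra.IsPushout R K A A'] [Algebra.FinitePresentation R A] [Module.Flat R A] {I : Ideal A}
    [Module.Flat R (A ⧸ I)] (hI : I.FG) (q' : Ideal A') [q'.IsPrime] (hIq' : I.map (algebraMap A A') ≤ q')
    (h : KRNear (I.map (algebraMap A A')) q') : KRNear I (q'.comap (algebraMap A A')) := by
  classical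
  let q := q'.comap (algebraMap A A')
  let p := q.comap (algebraMap R A)
  have hIq : I ≤ q := Ideal.map_le_iff_le_comap.1 hIq'
  have hpK : p = RingHom.ker (algebraMap R K) := by
    show (q'.comap (algebraMap A A')).comap (algebraMap R A) = _
    rw [Ideal.comap_comap, ← IsScalarTower.algebraMap_eq R A A', IsScalarTower.algebraMap_eq R K A',
      ← Ideal.comap_comap, (Ideal.eq_bot_of_prime (q'.comap (algebraMap K A'))), RingHom.ker_eq_comap_bot]
  let pA := p.map (algebraMap R A)
  have hpq : pA ≤ q := Ideal.map_comap_le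
  have hpker : ∀ a ∈ pA, algebraMap A A' a = 0 := by
    intro a ha
    have h0 : pA ≤ RingHom.ker (algebraMap A A') := Ideal.map_le_iff_le_comap.2 fun r hr => by
      rw [hpK, RingHom.mem_ker] at hr
      rw [Ideal.mem_comap, RingHom.mem_ker, ← IsScalarTower.algebraMap_apply, IsScalarTower.algebraMap_apply R K A',
        hr, map_zero]
    exact h0 ha
  let Ab := A ⧸ pA
  letI : Algebra Ab A' := (Ideal.Quotient.lift pA (algebraMap A A') hpker).toAlgebra
  haveI : IsScalarTower A Ab A' := IsScalarTower.of_algebraMap_eq fun _ => rfl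
  haveI : Module.Flat Ab A' :=
    flat_lift_of_isPushout (hP := hP) p hpK (Ideal.Quotient.lift pA (algebraMap A A') hpker) rfl
  haveI : IsNoetherianRing A' := by
    haveI : Algebra.FiniteType K A' :=
      (inferInstance : Algebra.FiniteType K (K ⊗[R] A)).equiv (Algebra.IsPushout.equiv R K A A')
    exact Algebra.FiniteType.isNoetherianRing K A'
  let qb : Ideal Ab := q'.comap (algebraMap Ab A')
  haveI : q'.LiesOver qb := ⟨rfl⟩
  let L := Localization.AtPrime qb
  let M := Localization.AtPrime q'
  letI := Localization.AtPrime.algebraOfLiesOver qb q'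
  haveI : IsLocalHom (algebraMap L M) := by
    rw [RingHom.algebraMap_toAlgebra]
    exact Localization.isLocalHom_localRingHom qb q' (algebraMap Ab A') Ideal.LiesOver.over
  haveI : Module.FaithfullyFlat L M := Module.FaithfullyFlat.of_flat_of_isLocalHom
  haveI : IsNoetherianRing L := by
    rw [isNoetherianRing_iff, ← monotone_stabilizes_iff_noetherian]
    intro f
    obtain ⟨n, hn⟩ := monotone_stabilizes_iff_noetherian.mpr
      (inferInstance : IsNoetherian M M) ⟨fun k => (Ideal.map (algebraMap L M) (f k) : Ideal M),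
        fun _ _ h => Ideal.map_mono (f.monotone h)⟩
    exact ⟨n, fun m hm => (Ideal.comap_map_eq_self_of_faithfullyFlat _).symm.trans
      ((congrArg (Ideal.comap (algebraMap L M)) (hn m hm)).trans (Ideal.comap_map_eq_self_of_faithfullyFlat _))⟩
  -- the stalk on the fibre
  obtain ⟨g, hg, l, hl, hspan⟩ := h
  have hu : IsUnit (algebraMap A' M g) := IsLocalization.map_units M (⟨g, hg⟩ : q'.primeCompl)
  let ρ : Localization.Away g →+* M := IsLocalization.Away.lift g hu
  have hρ : ρ.comp (algebraMap A' (Localization.Away g)) = algebraMap A' M := IsLocalization.Away.lift_comp g hu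
  letI : Algebra (Localization.Away g) M := ρ.toAlgebra
  haveI : IsScalarTower A' (Localization.Away g) M := IsScalarTower.of_algebraMap_eq' hρ.symm
  let S : Submonoid (Localization.Away g) := q'.primeCompl.map (algebraMap A' (Localization.Away g))
  haveI : IsLocalization S M := IsLocalization.isLocalization_of_submonoid_le (Localization.Away g) M
    (Submonoid.powers g) q'.primeCompl (Submonoid.powers_le.2 hg)
  have hlM := CI2.Ex.localization (B := M) S hl
  let τ : A →+* L := (algebraMap Ab L).comp (Ideal.Quotient.mk pA)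
  let J : Ideal L := I.map τ
  have hJM : J.map (algebraMap L M) = Ideal.ofList (l.map (algebraMap (Localization.Away g) M)) := by
    rw [← Ideal.map_ofList, ← hspan, Ideal.map_map, Ideal.map_map, Ideal.map_map, show
      algebraMap (Localization.Away g) M = ρ from rfl, hρ]
    refine congrArg (fun φ => Ideal.map φ I) (RingHom.ext fun x => ?_)
    show algebraMap L M (algebraMap Ab L (Ideal.Quotient.mk pA x)) = algebraMap A' M (algebraMap A A' x)
    rw [RingHom.algebraMap_toAlgebra]
    exact Localization.localRingHom_to_map qb q' _ Ideal.LiesOver.over _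
  have hqb : ∀ x, Ideal.Quotient.mk pA x ∈ qb ↔ x ∈ q := fun x => Iff.rfl
  have hJm : J ≤ maximalIdeal L := Ideal.map_le_iff_le_comap.2 fun x hx => by
    rw [Ideal.mem_comap, RingHom.comp_apply]
    exact (IsLocalization.AtPrime.to_map_mem_maximal_iff L qb _).2 ((hqb x).2 (hIq hx))
  have hne : J ≠ ⊤ := fun he => (maximalIdeal.isMaximal L).ne_top (top_le_iff.1 (he ▸ hJm))
  have hex : ∃ n, ∃ k : List L, k.length = n ∧ Ideal.ofList k = J := by
    obtain ⟨s, hs⟩ := hI
    exact ⟨_, s.toList.map τ, rfl, by rw [← Ideal.map_ofList]; show _ = I.map τ; rw [← hs]; simp [Ideal.ofList]⟩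
  obtain ⟨k₀, hk₀len, hk₀⟩ := Nat.find_spec hex
  have hk₀ex : Ex L L k₀ :=
    (CI2.ff_key hk₀ (fun k' hk' => hk₀len ▸ Nat.find_min' hex ⟨k', rfl, hk'⟩) hne hlM hJM).2
  have hlift : ∀ i : Fin k₀.length, ∃ a ∈ I, ∃ w : Lˣ, τ a = w * k₀.get i := by
    intro i
    have hmem : k₀.get i ∈ (I.map (Ideal.Quotient.mk pA)).map (algebraMap Ab L) := by
      rw [Ideal.map_map]; exact hk₀.le (Ideal.subset_span (k₀.get_mem i))
    obtain ⟨⟨⟨a, ha⟩, s⟩, he⟩ := (IsLocalization.mem_map_algebraMap_iff qb.primeCompl L).mp hmem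
    obtain ⟨a, haI, rfl⟩ := (Ideal.mem_map_iff_of_surjective _ Ideal.Quotient.mk_surjective).1 ha
    exact ⟨a, haI, (IsLocalization.map_units L s).unit, by
      rw [IsUnit.unit_spec, mul_comm]; exact he.symm⟩
  choose a haI w hw using hlift
  let fs : List A := (List.ofFn a).reverse
  have heq : Ideal.ofList ((List.ofFn a).map τ) = Ideal.ofList k₀ := by
    refine le_antisymm ?_ (Ideal.span_le.2 fun x hx => ?_)
    · rw [hk₀, ← Ideal.map_ofList]
      exact Ideal.map_mono (Ideal.span_le.2 fun x hx => by
        obtain ⟨i, rfl⟩ := List.mem_ofFn.mp hx; exact haI i)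
    · obtain ⟨i, rfl⟩ := List.mem_iff_get.mp hx
      have h1 : τ (a i) ∈ Ideal.ofList ((List.ofFn a).map τ) :=
        Ideal.subset_span (List.mem_map.mpr ⟨a i, List.mem_ofFn.mpr ⟨i, rfl⟩, rfl⟩)
      have h2 := Ideal.mul_mem_left _ ((w i)⁻¹ : Lˣ).1 h1
      rwa [hw, Units.inv_mul_cancel_left] at h2
  have hfsI : ∀ x ∈ fs, x ∈ I := fun x hx => by
    obtain ⟨i, rfl⟩ := List.mem_ofFn.mp (List.mem_reverse.1 hx); exact haI i
  have hreg : IsWeaklyRegular L (fs.map τ) := by
    rw [show fs.map τ = ((List.ofFn a).map τ).reverse from List.map_reverse ..]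
    refine CI2.isWeaklyRegular_reverse_of_exact _ (fun x hx => ?_)
      fun z hz => CI2.ex_of_ofList_eq hk₀ex heq (by simp) 0 z hz
    obtain ⟨y, hy, rfl⟩ := List.mem_map.1 hx
    obtain ⟨i, rfl⟩ := List.mem_ofFn.mp hy
    exact hJm (Ideal.mem_map_of_mem τ (haI i))
  have hfsq : Ideal.ofList fs ≤ q := Ideal.span_le.2 fun x hx => hIq (hfsI x hx)
  have hclear : ∀ (x : A) (N : Ideal A), τ x ∈ N.map τ ↔ ∃ s ∉ q, s * x ∈ pA ⊔ N := by
    intro x N
    show algebraMap Ab L (Ideal.Quotient.mk pA x) ∈ _ ↔ _
    rw [show N.map τ = (N.map (Ideal.Quotient.mk pA)).map (algebraMap Ab L) from (Ideal.map_map _ _).symm,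
      CI2.mem_map_localization qb.primeCompl, sup_comm pA N]
    constructor
    · rintro ⟨s, hs, hsx⟩
      obtain ⟨s, rfl⟩ := Ideal.Quotient.mk_surjective s
      rw [← map_mul, Ideal.mem_quotient_iff_mem_sup] at hsx
      exact ⟨s, fun h => hs ((hqb s).2 h), hsx⟩
    · rintro ⟨s, hs, hsx⟩
      exact ⟨Ideal.Quotient.mk pA s, fun h => hs ((hqb s).1 h), by rwa [← map_mul, Ideal.mem_quotient_iff_mem_sup]⟩
  have hfib : FibReg q R fs := by
    intro j hj b t ht hmem
    have h1 := (EmbDef.isWeaklyRegular_self_iff _).mp hreg j (by simpa using hj) (τ (t * b)) (by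
      rw [List.getElem_map, ← List.map_take, ← Ideal.map_ofList, ← map_mul]
      exact (hclear _ _).2 ⟨1, (Ideal.ne_top_iff_one q).mp (Ideal.IsPrime.ne_top inferInstance), by
        rw [one_mul]; convert hmem using 1; ring⟩)
    rw [← List.map_take, ← Ideal.map_ofList, hclear] at h1
    obtain ⟨s, hs, hsx⟩ := h1
    exact ⟨s * t, fun h => (Ideal.IsPrime.mem_or_mem inferInstance h).elim hs ht, by rwa [mul_assoc]⟩
  obtain ⟨g₁, hg₁, hwr⟩ := exists_isWeaklyRegular_away q fs hfsq hfib
  -- generation
  let φ : A →ₐ[R] A ⧸ I := Ideal.Quotient.mkₐ R I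
  have hkerφ : RingHom.ker φ.toRingHom = I := Ideal.mk_ker
  let qS : Ideal (A ⧸ I) := q.map (Ideal.Quotient.mk I)
  haveI : qS.IsPrime := Ideal.map_isPrime_of_surjective Ideal.Quotient.mk_surjective (by rwa [Ideal.mk_ker])
  have hqS : qS.comap φ.toRingHom = q := by
    show (q.map (Ideal.Quotient.mk I)).comap (Ideal.Quotient.mk I) = q
    rw [Ideal.comap_map_of_surjective _ Ideal.Quotient.mk_surjective, ← RingHom.ker_eq_comap_bot, Ideal.mk_ker,
      sup_eq_left.mpr hIq]
  haveI : qS.LiesOver p := ⟨by
    show q.comap (algebraMap R A) = qS.comap (algebraMap R (A ⧸ I))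
    rw [← hqS, Ideal.comap_comap]
    exact congrArg (fun ψ => qS.comap ψ) φ.comp_algebraMap⟩
  haveI : Module.Flat R (Localization.AtPrime qS) := by
    haveI := IsLocalization.flat (Localization.AtPrime qS) qS.primeCompl
    exact Module.Flat.trans R (A ⧸ I) _
  obtain ⟨g₂, hg₂, hgen⟩ := CI2.exists_mul_mem_of_fibre φ Ideal.Quotient.mk_surjective (hkerφ.symm ▸ hI) p qS
    (Ideal.ofList fs) (hkerφ.symm ▸ Ideal.span_le.2 hfsI) (fun x hx => by
      rw [hkerφ] at hx
      have h1 : τ x ∈ (Ideal.ofList fs).map τ := by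
        rw [Ideal.map_ofList, show fs.map τ = ((List.ofFn a).map τ).reverse from List.map_reverse ..,
          CI2.ofList_perm (List.reverse_perm _), heq, hk₀]
        exact Ideal.mem_map_of_mem τ hx
      obtain ⟨s, hs, hsx⟩ := (hclear _ _).1 h1
      exact ⟨s, by rwa [hqS], by rwa [sup_comm] at hsx⟩)
  rw [hqS] at hg₂
  rw [hkerφ] at hgen
  refine ⟨g₁ * g₂, fun h => (Ideal.IsPrime.mem_or_mem inferInstance h).elim hg₁ hg₂,
    fs.map (algebraMap A _), CI2.ex_of_isWeaklyRegular _ _ (hwr _ (dvd_mul_right g₁ g₂)), le_antisymm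
      (Ideal.map_le_iff_le_comap.2 fun x hx => ?_) ?_⟩
  · rw [Ideal.mem_comap, ← Ideal.map_ofList]
    refine (Ideal.unit_mul_mem_iff_mem _ (CI2.isUnit_away_of_dvd (dvd_mul_left g₂ g₁))).mp ?_
    rw [← map_mul]
    exact Ideal.mem_map_of_mem _ (hgen x hx)
  · rw [← Ideal.map_ofList]
    exact Ideal.map_mono (Ideal.span_le.2 hfsI)

/-- The residue fibre through a prime. -/
theorem exists_fibre_ring {R' A' : Type u} [CommRing R'] [CommRing A'] [Algebra R' A'] (q' : Ideal A') [q'.IsPrime] :
    ∃ (K : Type u) (_ : Field K) (_ : Algebra R' K) (A'' : Type u) (_ : CommRing A'') (_ : Algebra R' A'')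
      (_ : Algebra K A'') (_ : Algebra A' A'') (_ : IsScalarTower R' K A'') (_ : IsScalarTower R' A' A'')
      (_ : Algebra.IsPushout R' K A' A'') (Q : Ideal A''), Q.IsPrime ∧ Q.comap (algebraMap A' A'') = q' := by
  let p := q'.comap (algebraMap R' A')
  let f : p.ResidueField →ₐ[R'] q'.ResidueField :=
    { toRingHom := Ideal.ResidueField.map p q' (algebraMap R' A') rfl
      commutes' := fun r => by
        show Ideal.ResidueField.map p q' (algebraMap R' A') rfl (algebraMap R' p.ResidueField r) = _
        rw [Ideal.ResidueField.map_algebraMap, ← IsScalarTower.algebraMap_apply] }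
  let χ : p.ResidueField ⊗[R'] A' →ₐ[R'] q'.ResidueField :=
    Algebra.TensorProduct.lift f (IsScalarTower.toAlgHom R' A' q'.ResidueField) fun _ _ => mul_comm _ _
  letI : Algebra A' (p.ResidueField ⊗[R'] A') := Algebra.TensorProduct.rightAlgebra
  refine ⟨p.ResidueField, inferInstance, inferInstance, p.ResidueField ⊗[R'] A', inferInstance, inferInstance,
    inferInstance, inferInstance, inferInstance, inferInstance, inferInstance, RingHom.ker χ.toRingHom,
    RingHom.ker_isPrime _, ?_⟩
  rw [RingHom.comap_ker]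
  have : χ.toRingHom.comp (algebraMap A' (p.ResidueField ⊗[R'] A')) = algebraMap A' q'.ResidueField :=
    RingHom.ext fun a => by
      show χ ((1 : p.ResidueField) ⊗ₜ[R'] a) = _
      refine (show _ = f 1 * IsScalarTower.toAlgHom R' A' q'.ResidueField a from ?_).trans (by
        rw [map_one, one_mul]; rfl)
      exact Algebra.TensorProduct.lift_tmul ..
  rw [this, Ideal.ker_algebraMap_residueField]

set_option maxHeartbeats 1600000 in
set_option synthInstance.maxHeartbeats 100000 in
/-- Koszul regularity near a point is invariant under base change for flat quotients. -/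
theorem krNear_baseChange_iff {R' A A' : Type u} [CommRing R'] [CommRing A] [CommRing A'] [Algebra R R'] [Algebra R A]
    [Algebra R A'] [Algebra A A'] [Algebra R' A'] [IsScalarTower R A A'] [IsScalarTower R R' A']
    [hP : Algebra.IsPushout R R' A A'] [Algebra.FinitePresentation R A] [Module.Flat R A] {I : Ideal A}
    [Module.Flat R (A ⧸ I)] [Module.Flat R' (A' ⧸ I.map (algebraMap A A'))]
    (hI : I.FG) (q' : Ideal A') [q'.IsPrime] (hIq' : I.map (algebraMap A A') ≤ q') :
    KRNear (I.map (algebraMap A A')) q' ↔ KRNear I (q'.comap (algebraMap A A')) := by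
  refine ⟨fun h => ?_, krNear_baseChange (R := R) (R' := R') q'⟩
  obtain ⟨K, _, _, A'', _, _, _, _, _, _, _, Q, hQ, hQq⟩ := exists_fibre_ring (R' := R') q'
  haveI := hQ
  haveI : Module.Flat R' A' := Module.Flat.isBaseChange R R' A A' (hP.out)
  have h2 : KRNear ((I.map (algebraMap A A')).map (algebraMap A' A'')) Q :=
    krNear_baseChange (R := R') (R' := K) Q (by rw [hQq]; exact h)
  letI : Algebra R K := ((algebraMap R' K).comp (algebraMap R R')).toAlgebra
  haveI : IsScalarTower R R' K := IsScalarTower.of_algebraMap_eq fun _ => rfl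
  letI : Algebra A A'' := ((algebraMap A' A'').comp (algebraMap A A')).toAlgebra
  haveI : IsScalarTower A A' A'' := IsScalarTower.of_algebraMap_eq fun _ => rfl
  letI : Algebra R A'' := ((algebraMap R' A'').comp (algebraMap R R')).toAlgebra
  haveI : IsScalarTower R R' A'' := IsScalarTower.of_algebraMap_eq fun _ => rfl
  haveI : IsScalarTower R A A'' := IsScalarTower.of_algebraMap_eq (R := R) (S := A) (A := A'') fun r => by
    show _ = algebraMap A' A'' (algebraMap A A' (algebraMap R A r))
    rw [← IsScalarTower.algebraMap_apply R A A', IsScalarTower.algebraMap_apply R R' A',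
      ← IsScalarTower.algebraMap_apply R' A' A'', ← IsScalarTower.algebraMap_apply R R' A'']
  haveI : IsScalarTower R K A'' := IsScalarTower.of_algebraMap_eq (R := R) (S := K) (A := A'') fun r => by
    rw [IsScalarTower.algebraMap_apply R R' A'', IsScalarTower.algebraMap_apply R' K A'',
      IsScalarTower.algebraMap_apply R R' K]
  haveI : IsScalarTower R A' A'' := IsScalarTower.of_algebraMap_eq (R := R) (S := A') (A := A'') fun r => by
    rw [IsScalarTower.algebraMap_apply R R' A'', IsScalarTower.algebraMap_apply R R' A',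
      ← IsScalarTower.algebraMap_apply R' A' A'']
  haveI : Algebra.IsPushout R K A A'' := (Algebra.IsPushout.comp_iff (T := K) (T' := A'') R R' A A').2 inferInstance
  rw [Ideal.map_map, ← IsScalarTower.algebraMap_eq] at h2
  have h3 := krNear_of_fibre (R := R) (K := K) hI Q (by
    rw [IsScalarTower.algebraMap_eq A A' A'', ← Ideal.map_map, Ideal.map_le_iff_le_comap, hQq]; exact hIq') h2
  rwa [IsScalarTower.algebraMap_eq A A' A'', ← Ideal.comap_comap, hQq] at h3

end Groth.Agent.KoszulFibre4
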