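import Groth.Agent.Lib.KoszulFibre4.Chart
import Groth.Agent.Lib.KoszulBridge4
import Groth.Agent.Lib.FlatH4.PullChart
import Groth.Agent.Lib.FlatH4.PullFlat
import Mathlib

/-!
# The Koszul locus of a morphism
-/

set_option autoImplicit false
set_option linter.style.haveILetI false
universe u

open CategoryTheory CategoryTheory.Limits AlgebraicGeometry

namespace Groth.Agent.KoszulFibre4

/-- `f` has an affine chart at `x` with a local complete intersection ring map. -/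
def LocusMem {X Y : Scheme.{u}} (f : X ⟶ Y) (x : X) : Prop :=
  ∃ (U : X.Opens) (V : Y.Opens) (hU : IsAffineOpen U) (hV : IsAffineOpen V) (hUV : U ≤ f ⁻¹ᵁ V), x ∈ U ∧
    letI := (f.appLE V U hUV).hom.toAlgebra
    LCI.IsLCI Γ(Y, V) Γ(X, U)

theorem mem_basicOpen_iff {X : Scheme.{u}} {U : X.Opens} (hU : IsAffineOpen U) (c : Γ(X, U)) (x : U) :
    (x : X) ∈ X.basicOpen c ↔ c ∉ (hU.primeIdealOf x).asIdeal := by
  rw [← PrimeSpectrum.mem_basicOpen, ← hU.fromSpec_preimage_basicOpen c]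
  show _ ↔ hU.fromSpec (hU.primeIdealOf x) ∈ X.basicOpen c
  rw [hU.fromSpec_primeIdealOf]

theorem exists_away_equiv {X Y : Scheme.{u}} (f : X ⟶ Y) {U : X.Opens} (hU : IsAffineOpen U) {V : Y.Opens}
    (hUV : U ≤ f ⁻¹ᵁ V) (c : Γ(X, U)) :
    letI := (f.appLE V U hUV).hom.toAlgebra
    letI := (f.appLE V (X.basicOpen c) ((X.basicOpen_le c).trans hUV)).hom.toAlgebra
    Nonempty (Localization.Away c ≃ₐ[Γ(Y, V)] Γ(X, X.basicOpen c)) := by
  letI : Algebra Γ(Y, V) Γ(X, U) := (f.appLE V U hUV).hom.toAlgebra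
  letI : Algebra Γ(Y, V) Γ(X, X.basicOpen c) :=
    (f.appLE V (X.basicOpen c) ((X.basicOpen_le c).trans hUV)).hom.toAlgebra
  haveI := hU.isLocalization_basicOpen c
  haveI : IsScalarTower Γ(Y, V) Γ(X, U) Γ(X, X.basicOpen c) := IsScalarTower.of_algebraMap_eq fun r => by
    show _ = (f.appLE V U hUV ≫ X.presheaf.map (homOfLE (X.basicOpen_le c)).op) r
    rw [Scheme.Hom.appLE_map]
    rfl
  exact ⟨(IsLocalization.algEquiv (Submonoid.powers c) (Localization.Away c) Γ(X, X.basicOpen c)).restrictScalars _⟩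

/-- On any affine chart, the locus consists of the primes near which the ring map is a local complete intersection. -/
theorem locusMem_iff_lciNear {X Y : Scheme.{u}} (f : X ⟶ Y) {U : X.Opens} (hU : IsAffineOpen U) {V : Y.Opens}
    (hV : IsAffineOpen V) (hUV : U ≤ f ⁻¹ᵁ V) (x : U) :
    LocusMem f x ↔ (letI := (f.appLE V U hUV).hom.toAlgebra
      LCINear Γ(Y, V) Γ(X, U) (hU.primeIdealOf x).asIdeal) := by
  letI : Algebra Γ(Y, V) Γ(X, U) := (f.appLE V U hUV).hom.toAlgebra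
  constructor
  · rintro ⟨U₁, V₁, hU₁, hV₁, hUV₁, hxU₁, hlci⟩
    obtain ⟨O, P, i, π, hxO, hft, hi, hπ, hiπ⟩ := CI2.isKoszulAt_of_isLCI f hU₁ hV₁ hUV₁ hxU₁ hlci
    obtain ⟨c, hcO, hxc⟩ := hU.exists_basicOpen_le (V := O) ⟨x, hxO⟩ x.2
    refine ⟨c, (mem_basicOpen_iff hU c x).1 hxc, ?_⟩
    let U' := X.basicOpen c
    let j := X.homOfLE hcO
    have hk : ∀ y, Synt.IsKoszulAt (U'.ι ≫ f) y := fun y => by
      refine ⟨⊤, P, ((⊤ : U'.toScheme.Opens).ι ≫ j) ≫ i, π, trivial, ?_,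
        CI2.isRegularImmersion_comp_open i hi _, hπ, ?_⟩
      · haveI := hft
        rw [show U'.ι ≫ f = j ≫ (O.ι ≫ f) by rw [← Category.assoc, X.homOfLE_ι]]
        infer_instance
      · rw [Category.assoc, hiπ, Category.assoc, ← Category.assoc j, X.homOfLE_ι]
    have hcU : U' ≤ f ⁻¹ᵁ V := (X.basicOpen_le c).trans hUV
    have hU' : IsAffineOpen U' := hU.basicOpen c
    haveI : IsAffine U'.toScheme := hU'
    have htop : (⊤ : U'.toScheme.Opens) ≤ (U'.ι ≫ f) ⁻¹ᵁ V := fun y _ => hcU y.2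
    have h1 := CI2.isLCI_appLE_of_isKoszulAt (U'.ι ≫ f) hk (isAffineOpen_top _) hV htop
    letI : Algebra Γ(Y, V) Γ(U'.toScheme, ⊤) := ((U'.ι ≫ f).appLE V ⊤ htop).hom.toAlgebra
    letI : Algebra Γ(Y, V) Γ(X, U') := (f.appLE V U' hcU).hom.toAlgebra
    have hle : (⊤ : U'.toScheme.Opens) ≤ U'.ι ⁻¹ᵁ U' := fun y _ => y.2
    let φ := U'.ι.appLE U' ⊤ hle
    haveI : IsIso φ := by
      show IsIso (U'.ι.appLE U' ⊤ hle)
      rw [Scheme.Opens.ι_appLE]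
      have he : U'.ι ''ᵁ ⊤ = U' := U'.ι_image_top
      have hmapiso : ∀ {A₁ A₂ : X.Opens} (h₁ : A₁ = A₂) (hh : A₁ ≤ A₂), IsIso (X.presheaf.map (homOfLE hh).op) := by
        intro A₁ A₂ h₁ hh
        subst h₁
        rw [Subsingleton.elim (homOfLE hh) (𝟙 A₁), op_id, X.presheaf.map_id]
        infer_instance
      exact hmapiso he _
    let e : Γ(X, U') ≃ₐ[Γ(Y, V)] Γ(U'.toScheme, ⊤) :=
      AlgEquiv.ofRingEquiv (f := (asIso φ).commRingCatIsoToRingEquiv) fun r => by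
        show (f.appLE V U' hcU ≫ U'.ι.appLE U' ⊤ hle) r = ((U'.ι ≫ f).appLE V ⊤ htop) r
        rw [Scheme.Hom.appLE_comp_appLE]
    obtain ⟨e₀⟩ := exists_away_equiv f hU hUV c
    exact isLCI_congr e₀.symm (isLCI_congr e.symm h1)
  · rintro ⟨c, hc, hlci⟩
    letI : Algebra Γ(Y, V) Γ(X, X.basicOpen c) :=
      (f.appLE V (X.basicOpen c) ((X.basicOpen_le c).trans hUV)).hom.toAlgebra
    obtain ⟨e₀⟩ := exists_away_equiv f hU hUV c
    exact ⟨X.basicOpen c, V, hU.basicOpen c, hV, (X.basicOpen_le c).trans hUV, (mem_basicOpen_iff hU c x).2 hc,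
      isLCI_congr e₀ hlci⟩

set_option maxHeartbeats 1600000 in
/-- The Koszul locus of a morphism of schemes flat over a base commutes with base change. -/
theorem locusMem_baseChange {X Y S : Scheme.{u}} (f : X ⟶ Y) (g : Y ⟶ S)
    [Flat (f ≫ g)] [LocallyOfFinitePresentation (f ≫ g)] [Flat g] [LocallyOfFinitePresentation g]
    {X' Y' S' : Scheme.{u}} (h : S' ⟶ S) (gY : Y' ⟶ Y) (g' : Y' ⟶ S') (hY : IsPullback gY g' g h)
    (gX : X' ⟶ X) (f' : X' ⟶ Y') (hX : IsPullback gX (f' ≫ g') (f ≫ g) h) (w : gX ≫ f = f' ≫ gY) (x' : X') :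
    LocusMem f' x' ↔ LocusMem f (gX x') := by
  have hXY : IsPullback gX f' f gY := IsPullback.of_bot hX w hY
  have hxy : gY (f' x') = f (gX x') := by rw [← Scheme.Hom.comp_apply, ← w]; rfl
  have hs : h (g' (f' x')) = g (f (gX x')) := by
    rw [← Scheme.Hom.comp_apply, ← hY.w, Scheme.Hom.comp_apply, hxy]
  obtain ⟨W, hW, hsW, -⟩ := exists_isAffineOpen_mem_and_subset (X := S) (x := g (f (gX x'))) (U := ⊤) trivial
  obtain ⟨W', hW', hsW', hWW'⟩ := exists_isAffineOpen_mem_and_subset (X := S') (x := g' (f' x')) (U := h ⁻¹ᵁ W)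
    (show h (g' (f' x')) ∈ W by rw [hs]; exact hsW)
  obtain ⟨V, hV, hyV, hVW⟩ := exists_isAffineOpen_mem_and_subset (X := Y) (x := f (gX x')) (U := g ⁻¹ᵁ W) hsW
  obtain ⟨U, hU, hxU, hUV⟩ := exists_isAffineOpen_mem_and_subset (X := X) (x := gX x') (U := f ⁻¹ᵁ V) hyV
  replace hWW' : W' ≤ h ⁻¹ᵁ W := hWW'
  replace hVW : V ≤ g ⁻¹ᵁ W := hVW
  replace hUV : U ≤ f ⁻¹ᵁ V := hUV
  have hV' : IsAffineOpen (gY ⁻¹ᵁ V ⊓ g' ⁻¹ᵁ W') :=
    FlatH4.isAffineOpen_of_isPullback hY hWW' hVW rfl hW hW' hV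
  let V' := gY ⁻¹ᵁ V ⊓ g' ⁻¹ᵁ W'
  have hyV' : f' x' ∈ V' := ⟨show gY (f' x') ∈ V by rw [hxy]; exact hyV, hsW'⟩
  have eVV' : V' ≤ gY ⁻¹ᵁ V := inf_le_left
  have eV'W' : V' ≤ g' ⁻¹ᵁ W' := inf_le_right
  let U' := gX ⁻¹ᵁ U ⊓ f' ⁻¹ᵁ V'
  have hU' : IsAffineOpen U' := FlatH4.isAffineOpen_of_isPullback hXY eVV' hUV rfl hV hV' hU
  have hx' : x' ∈ U' := ⟨hxU, hyV'⟩
  have eUU' : U' ≤ gX ⁻¹ᵁ U := inf_le_left
  have eU'V' : U' ≤ f' ⁻¹ᵁ V' := inf_le_right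
  have eUW : U ≤ (f ≫ g) ⁻¹ᵁ W := fun z hz => hVW (hUV hz)
  have eU'W' : U' ≤ (f' ≫ g') ⁻¹ᵁ W' := fun z hz => eV'W' (eU'V' hz)
  letI : Algebra Γ(S, W) Γ(S', W') := (h.appLE W W' hWW').hom.toAlgebra
  letI : Algebra Γ(S, W) Γ(Y, V) := (g.appLE W V hVW).hom.toAlgebra
  letI : Algebra Γ(S', W') Γ(Y', V') := (g'.appLE W' V' eV'W').hom.toAlgebra
  letI : Algebra Γ(Y, V) Γ(Y', V') := (gY.appLE V V' eVV').hom.toAlgebra
  letI : Algebra Γ(Y, V) Γ(X, U) := (f.appLE V U hUV).hom.toAlgebra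
  letI : Algebra Γ(Y', V') Γ(X', U') := (f'.appLE V' U' eU'V').hom.toAlgebra
  letI : Algebra Γ(X, U) Γ(X', U') := (gX.appLE U U' eUU').hom.toAlgebra
  letI : Algebra Γ(S, W) Γ(X, U) := ((f ≫ g).appLE W U eUW).hom.toAlgebra
  letI : Algebra Γ(S', W') Γ(X', U') := ((f' ≫ g').appLE W' U' eU'W').hom.toAlgebra
  letI : Algebra Γ(S, W) Γ(Y', V') :=
    ((algebraMap Γ(Y, V) Γ(Y', V')).comp (algebraMap Γ(S, W) Γ(Y, V))).toAlgebra
  letI : Algebra Γ(Y, V) Γ(X', U') :=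
    ((algebraMap Γ(X, U) Γ(X', U')).comp (algebraMap Γ(Y, V) Γ(X, U))).toAlgebra
  letI : Algebra Γ(S, W) Γ(X', U') :=
    ((algebraMap Γ(X, U) Γ(X', U')).comp (algebraMap Γ(S, W) Γ(X, U))).toAlgebra
  haveI : IsScalarTower Γ(S, W) Γ(Y, V) Γ(Y', V') := IsScalarTower.of_algebraMap_eq fun _ => rfl
  haveI : IsScalarTower Γ(S, W) Γ(S', W') Γ(Y', V') := IsScalarTower.of_algebraMap_eq fun r => by
    show (g.appLE W V hVW ≫ gY.appLE V V' eVV') r = (h.appLE W W' hWW' ≫ g'.appLE W' V' eV'W') r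
    rw [Scheme.Hom.appLE_comp_appLE, Scheme.Hom.appLE_comp_appLE]
    simp only [hY.w]
  haveI : IsScalarTower Γ(Y, V) Γ(X, U) Γ(X', U') := IsScalarTower.of_algebraMap_eq fun _ => rfl
  haveI : IsScalarTower Γ(Y, V) Γ(Y', V') Γ(X', U') := IsScalarTower.of_algebraMap_eq fun r => by
    show (f.appLE V U hUV ≫ gX.appLE U U' eUU') r = (gY.appLE V V' eVV' ≫ f'.appLE V' U' eU'V') r
    rw [Scheme.Hom.appLE_comp_appLE, Scheme.Hom.appLE_comp_appLE]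
    simp only [w]
  haveI : IsScalarTower Γ(S, W) Γ(Y, V) Γ(X, U) := IsScalarTower.of_algebraMap_eq fun r => by
    show ((f ≫ g).appLE W U eUW) r = (g.appLE W V hVW ≫ f.appLE V U hUV) r
    rw [Scheme.Hom.appLE_comp_appLE]
  haveI : IsScalarTower Γ(S', W') Γ(Y', V') Γ(X', U') := IsScalarTower.of_algebraMap_eq fun r => by
    show ((f' ≫ g').appLE W' U' eU'W') r = (g'.appLE W' V' eV'W' ≫ f'.appLE V' U' eU'V') r
    rw [Scheme.Hom.appLE_comp_appLE]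
  haveI : IsScalarTower Γ(S, W) Γ(X, U) Γ(X', U') := IsScalarTower.of_algebraMap_eq fun _ => rfl
  haveI : IsScalarTower Γ(S, W) Γ(Y, V) Γ(X', U') := IsScalarTower.of_algebraMap_eq fun r => by
    rw [IsScalarTower.algebraMap_apply Γ(S, W) Γ(X, U) Γ(X', U'),
      IsScalarTower.algebraMap_apply Γ(S, W) Γ(Y, V) Γ(X, U),
      ← IsScalarTower.algebraMap_apply Γ(Y, V) Γ(X, U) Γ(X', U')]
  haveI : IsScalarTower Γ(S, W) Γ(Y', V') Γ(X', U') := IsScalarTower.of_algebraMap_eq fun r => by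
    rw [IsScalarTower.algebraMap_apply Γ(S, W) Γ(Y, V) Γ(Y', V'),
      ← IsScalarTower.algebraMap_apply Γ(Y, V) Γ(Y', V') Γ(X', U'), ← IsScalarTower.algebraMap_apply]
  haveI : IsScalarTower Γ(S, W) Γ(S', W') Γ(X', U') := IsScalarTower.of_algebraMap_eq fun r => by
    rw [IsScalarTower.algebraMap_apply Γ(S', W') Γ(Y', V') Γ(X', U'),
      ← IsScalarTower.algebraMap_apply Γ(S, W) Γ(S', W') Γ(Y', V'),
      ← IsScalarTower.algebraMap_apply Γ(S, W) Γ(Y', V') Γ(X', U')]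
  haveI hP : Algebra.IsPushout Γ(S, W) Γ(S', W') Γ(Y, V) Γ(Y', V') :=
    FlatH4.algebra_isPushout_sections hY hWW' hVW (UY := V') rfl hW hW' hV rfl rfl rfl rfl
  haveI hQ : Algebra.IsPushout Γ(Y, V) Γ(Y', V') Γ(X, U) Γ(X', U') :=
    FlatH4.algebra_isPushout_sections hXY eVV' hUV (UY := U') rfl hV hV' hU rfl rfl rfl rfl
  haveI : Algebra.FinitePresentation Γ(S, W) Γ(Y, V) := g.finitePresentation_appLE hW hV hVW
  haveI : Algebra.FinitePresentation Γ(S, W) Γ(X, U) := (f ≫ g).finitePresentation_appLE hW hU eUW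
  haveI : Module.Flat Γ(S, W) Γ(Y, V) := g.flat_appLE hW hV hVW
  haveI : Module.Flat Γ(S, W) Γ(X, U) := (f ≫ g).flat_appLE hW hU eUW
  refine (locusMem_iff_lciNear f' hU' hV' eU'V' ⟨x', hx'⟩).trans ?_
  refine (lciNear_baseChange_iff (R := Γ(S, W)) (R' := Γ(S', W')) (B := Γ(Y, V)) (C := Γ(X, U)) _).trans ?_
  refine Iff.trans ?_ (locusMem_iff_lciNear f hU hV hUV ⟨gX x', hxU⟩).symm
  exact iff_of_eq (congrArg (LCINear Γ(Y, V) Γ(X, U))
    congr($(IsAffineOpen.comap_primeIdealOf_appLE U hU U' hU' eUU' hx').1))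

end Groth.Agent.KoszulFibre4
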