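import Groth.Agent.Lib.CI2.KRDesc
import Groth.Agent.Lib.FlatSyz.ProjDim
import Groth.Agent.Lib.FlatH4.FlatComp
import Mathlib

/-!
# Base change of Koszul regular sequences with flat quotient
-/

set_option autoImplicit false
set_option linter.style.haveILetI false
universe u

open TensorProduct
open Groth.Agent.CanElt (KObj kd k0)
open Groth.Agent.CI2 (Ex tEquiv)

namespace Groth.Agent.KoszulFibre4

variable {R G : Type u} [CommRing R] [CommRing G] [Algebra R G]

theorem free_KObj : ∀ (l : List G) (n : ℕ), Module.Free G (KObj G G l n)
  | [], 0 => inferInstanceAs (Module.Free G G)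
  | [], n + 1 => by
    haveI : Subsingleton (KObj G G ([] : List G) (n + 1)) := inferInstanceAs (Subsingleton PUnit.{u + 1})
    exact Module.Free.of_subsingleton G _
  | _ :: l, 0 => free_KObj l 0
  | _ :: l, n + 1 => by
    haveI := free_KObj l (n + 1)
    haveI := free_KObj l n
    exact Module.Free.prod G (KObj G G l (n + 1)) (KObj G G l n)

set_option maxHeartbeats 1600000 in
/-- The Koszul complex of a regular sequence with flat quotient stays exact with any coefficients. -/
theorem ex_tensor [Module.Flat R G] (l : List G) [Module.Flat R (G ⧸ Ideal.ofList l)] (h : Ex G G l)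
    (M : Type u) [AddCommGroup M] [Module R M] : Ex G (G ⊗[R] M) l := by
  letI instM : ∀ n, Module R (KObj G G l n) := fun n => Module.compHom _ (algebraMap R G)
  haveI instT : ∀ n, IsScalarTower R G (KObj G G l n) := fun n => IsScalarTower.of_algebraMap_smul fun _ _ => rfl
  haveI hK : ∀ n, Module.Flat R (KObj G G l n) := fun n => by
    haveI := free_KObj l n
    exact Module.Flat.trans R G _
  have hQ : ∀ n, Module.Flat R (KObj G G l n ⧸ LinearMap.range (kd G G l n)) := by
    intro n
    induction n with
    | zero =>
      let e : (KObj G G l 0 ⧸ LinearMap.range (kd G G l 0)) ≃ₗ[G] G ⧸ Ideal.ofList l :=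
        Submodule.Quotient.equiv _ _ (k0 G G l) (by
          ext x
          refine ⟨?_, fun hx => ⟨(k0 G G l).symm x, ?_, (k0 G G l).apply_symm_apply x⟩⟩
          · rintro ⟨y, hy, rfl⟩
            have := (CanElt.mem_range_kd_zero G G l y).1 hy
            rwa [smul_eq_mul, Ideal.mul_top] at this
          · refine (CanElt.mem_range_kd_zero G G l _).2 ?_
            rw [LinearEquiv.apply_symm_apply, smul_eq_mul, Ideal.mul_top]
            exact hx)
      exact Module.Flat.of_linearEquiv (e.restrictScalars R)
    | succ n ih =>
      haveI := ih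
      let d := (kd G G l n).rangeRestrict
      haveI : Module.Flat R (LinearMap.range (kd G G l n)) :=
        FlatSyz.flat_of_exact (((LinearMap.range (kd G G l n)).subtype).restrictScalars R) Subtype.val_injective
          ((LinearMap.range (kd G G l n)).mkQ.restrictScalars R)
          (LinearMap.exact_subtype_mkQ (LinearMap.range (kd G G l n))) (Submodule.mkQ_surjective _)
      let e : (KObj G G l (n + 1) ⧸ LinearMap.range (kd G G l (n + 1))) ≃ₗ[G] LinearMap.range (kd G G l n) :=
        (Submodule.quotEquivOfEq _ _ (le_antisymm
          (by rintro _ ⟨w, rfl⟩; exact CanElt.kd_kd G G l n w)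
          (fun z hz => h n z hz))).trans (kd G G l n).quotKerEquivRange
      exact Module.Flat.of_linearEquiv (e.restrictScalars R)
  intro n z hz
  let N := G ⊗[R] M
  let c : ∀ m, KObj G G l m ⊗[G] N ≃ₗ[R] KObj G G l m ⊗[R] M := fun m =>
    (AlgebraTensorModule.cancelBaseChange R G G (KObj G G l m) M).restrictScalars R
  let D : ∀ m, KObj G G l (m + 1) ⊗[R] M →ₗ[R] KObj G G l m ⊗[R] M := fun m =>
    ((kd G G l m).restrictScalars R).rTensor M
  have hc : ∀ m y, c m ((kd G G l m).rTensor N y) = D m (c (m + 1) y) := by
    intro m y
    induction y using TensorProduct.induction_on with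
    | zero => simp
    | add a b ha hb => simp only [map_add, ha, hb]
    | tmul a w =>
      induction w using TensorProduct.induction_on with
      | zero => simp
      | add a b ha hb => simp only [TensorProduct.tmul_add, map_add, ha, hb]
      | tmul g x =>
        show AlgebraTensorModule.cancelBaseChange R G G _ M (kd G G l m a ⊗ₜ (g ⊗ₜ x)) =
          ((kd G G l m).restrictScalars R).rTensor M (AlgebraTensorModule.cancelBaseChange R G G _ M (a ⊗ₜ (g ⊗ₜ x)))
        rw [AlgebraTensorModule.cancelBaseChange_tmul, AlgebraTensorModule.cancelBaseChange_tmul,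
          LinearMap.rTensor_tmul, LinearMap.restrictScalars_apply, map_smul]
  have hcomp : ∀ m y, tEquiv N l m ((kd G G l m).rTensor N y) = kd G N l m (tEquiv N l (m + 1) y) := fun m y =>
    LinearMap.congr_fun (show (tEquiv N l m).toLinearMap ∘ₗ (kd G G l m).rTensor N =
      kd G N l m ∘ₗ (tEquiv N l (m + 1)).toLinearMap from TensorProduct.ext' fun a b => CI2.tEquiv_kd N l m a b) y
  obtain ⟨y, rfl⟩ := (tEquiv N l (n + 1)).surjective z
  have h0 : D n (c (n + 1) y) = 0 := by
    rw [← hc, (tEquiv N l n).injective ((hcomp n y).trans (hz.trans (map_zero _).symm)), map_zero]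
  let d := (kd G G l n).rangeRestrict.restrictScalars R
  let ι := (LinearMap.range (kd G G l n)).subtype.restrictScalars R
  have hι : Function.Injective (ι.rTensor M) := by
    haveI := hQ n
    have := FlatSyz.lTensor_subtype_injective_of_flat_quotient ι Subtype.val_injective
      ((LinearMap.range (kd G G l n)).mkQ.restrictScalars R)
      (LinearMap.exact_subtype_mkQ (LinearMap.range (kd G G l n))) (Submodule.mkQ_surjective _) M
    exact (LinearMap.lTensor_inj_iff_rTensor_inj M ι).1 this
  have hd : d.rTensor M (c (n + 1) y) = 0 := by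
    refine hι ?_
    rw [map_zero, ← LinearMap.comp_apply, ← LinearMap.rTensor_comp]
    exact h0
  have hex : Function.Exact ((kd G G l (n + 1)).restrictScalars R) d := fun x =>
    ⟨fun hx => h n x (congrArg Subtype.val hx),
      fun ⟨w, hw⟩ => Subtype.ext (show kd G G l n x = 0 by rw [← hw]; exact CanElt.kd_kd G G l n w)⟩
  obtain ⟨w, hw⟩ := (rTensor_exact M hex
    (LinearMap.surjective_rangeRestrict (kd G G l n)) (c (n + 1) y)).1 hd
  refine ⟨tEquiv N l (n + 2) ((c (n + 2)).symm w), ?_⟩
  rw [← hcomp]
  refine congrArg _ ((c (n + 1)).injective ?_)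
  rw [hc, LinearEquiv.apply_symm_apply]
  exact hw

/-- A regular sequence with flat quotient stays regular after base change. -/
theorem ex_pushout {R' G' : Type u} [CommRing R'] [CommRing G'] [Algebra R R'] [Algebra R G'] [Algebra G G']
    [Algebra R' G'] [IsScalarTower R G G'] [IsScalarTower R R' G'] [hP : Algebra.IsPushout R R' G G']
    [Module.Flat R G] (l : List G) [Module.Flat R (G ⧸ Ideal.ofList l)] (h : Ex G G l) :
    Ex G' G' (l.map (algebraMap G G')) := by
  haveI := hP.symm
  exact ((ex_tensor l h R').congr (Algebra.IsPushout.equiv R G R' G').toLinearEquiv).map_bijective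
    (σ := algebraMap G G')
    { toFun := id
      map_add' := fun _ _ => rfl
      map_smul' := fun a b => Algebra.smul_def a b }
    Function.bijective_id

end Groth.Agent.KoszulFibre4
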